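import Groth.Agent.PerfFibreLib.Split
import Mathlib.RingTheory.Spectrum.Prime.FreeLocus
import Mathlib.RingTheory.Flat.Equalizer

/-!
# Complexes of finite free modules with free localised homology
-/

set_option autoImplicit false

universe u

open CategoryTheory PrimeSpectrum
open scoped TensorProduct

namespace PerfFreeLocLib

open Groth.Agent.PerfFibreLib (MCx cok dbar cokDbar ker_split nonempty_homology_ker)

theorem projective_of_ker {B : Type u} [CommRing B] {P F : Type u} [AddCommGroup P] [Module B P]
    [AddCommGroup F] [Module B F] [Module.Projective B F] (f : P →ₗ[B] F)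
    [Module.Projective B (F ⧸ LinearMap.range f)] [Module.Projective B (LinearMap.ker f)] :
    Module.Projective B P := by
  obtain ⟨s, hs⟩ := Module.projective_lifting_property (LinearMap.range f).mkQ LinearMap.id
    (Submodule.mkQ_surjective _)
  obtain ⟨e₁, -, -⟩ := ((LinearMap.exact_subtype_mkQ (LinearMap.range f)).splitSurjectiveEquiv
    Subtype.val_injective) ⟨s, hs⟩
  haveI : Module.Projective B (LinearMap.range f) :=
    Module.Projective.of_split ((e₁.symm.toLinearMap).comp (LinearMap.inl B _ _))
      ((LinearMap.fst B _ _).comp e₁.toLinearMap) (by ext; simp)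
  obtain ⟨t, ht⟩ := Module.projective_lifting_property f.rangeRestrict LinearMap.id
    (LinearMap.surjective_rangeRestrict f)
  have hex : Function.Exact (LinearMap.ker f).subtype f.rangeRestrict := by
    intro x
    simp [Subtype.ext_iff]
  obtain ⟨e₂, -, -⟩ := (hex.splitSurjectiveEquiv Subtype.val_injective) ⟨t, ht⟩
  exact Module.Projective.of_equiv e₂.symm

variable {A : Type u} [CommRing A] (M : MCx A) (r : ℤ → ℕ) (e : ∀ k, M.X k ≃ₗ[A] (Fin (r k) → A))
include e

theorem finitePresentation_cok (k : ℤ) : Module.FinitePresentation A (cok M k) := by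
  haveI : Module.Finite A (M.X (k - 1)) := Module.Finite.equiv (e _).symm
  haveI : Module.Free A (M.X k) := Module.Free.of_equiv (e _).symm
  haveI : Module.Finite A (M.X k) := Module.Finite.equiv (e _).symm
  haveI : Module.FinitePresentation A (M.X k) := Module.finitePresentation_of_projective _ _
  refine Module.finitePresentation_of_surjective (LinearMap.range (M.d (k - 1) k).hom).mkQ
    (Submodule.mkQ_surjective _) ?_
  rw [Submodule.ker_mkQ, LinearMap.range_eq_map]
  exact Module.Finite.fg_top.map _

/-- One step of the descending induction, after a flat base change. -/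
theorem step (B : Type u) [CommRing B] [Algebra A B] [Module.Flat A B] (k : ℤ)
    [Module.Projective B (B ⊗[A] cok M (k + 1))] :
    Module.Finite B (B ⊗[A] M.homology k) ∧
      (Module.Projective B (B ⊗[A] cok M k) → Module.Projective B (B ⊗[A] M.homology k)) ∧
      (Module.Projective B (B ⊗[A] M.homology k) → Module.Projective B (B ⊗[A] cok M k)) := by
  haveI : Module.Free A (M.X (k + 1)) := Module.Free.of_equiv (e (k + 1)).symm
  haveI : Module.Finite A (M.X (k + 1)) := Module.Finite.equiv (e (k + 1)).symm
  haveI : Module.Finite A (M.X k) := Module.Finite.equiv (e k).symm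
  let f : B ⊗[A] cok M k →ₗ[B] B ⊗[A] M.X (k + 1) :=
    TensorProduct.AlgebraTensorModule.lTensor B B (dbar M k)
  let q : M.X (k + 1) →ₗ[A] cok M (k + 1) :=
    (cokDbar M k).toLinearMap.comp (LinearMap.range (dbar M k)).mkQ
  have hq : Function.Surjective q := (cokDbar M k).surjective.comp (Submodule.mkQ_surjective _)
  have hex : Function.Exact (dbar M k) q := by
    intro x
    simp [q, LinearMap.mem_range]
  let g : B ⊗[A] M.X (k + 1) →ₗ[B] B ⊗[A] cok M (k + 1) :=
    TensorProduct.AlgebraTensorModule.lTensor B B q
  have hexB : Function.Exact f g := lTensor_exact B hex hq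
  have hgs : Function.Surjective g := LinearMap.lTensor_surjective B hq
  have hr : LinearMap.range f = LinearMap.ker g := (LinearMap.exact_iff.1 hexB).symm
  haveI : Module.Projective B ((B ⊗[A] M.X (k + 1)) ⧸ LinearMap.range f) :=
    Module.Projective.of_equiv
      ((Submodule.quotEquivOfEq _ _ hr).trans (g.quotKerEquivOfSurjective hgs)).symm
  obtain ⟨eH⟩ := nonempty_homology_ker M k
  let θ : B ⊗[A] M.homology k ≃ₗ[B] LinearMap.ker f :=
    (TensorProduct.AlgebraTensorModule.congr (LinearEquiv.refl B B) eH).trans
      (LinearMap.tensorKerEquiv B B (dbar M k))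
  obtain ⟨h1, h2, -, -⟩ := ker_split f
  refine ⟨Module.Finite.equiv θ.symm, fun h => ?_, fun h => ?_⟩
  · haveI := h2 h
    exact Module.Projective.of_equiv θ.symm
  · haveI : Module.Projective B (LinearMap.ker f) := Module.Projective.of_equiv θ
    exact projective_of_ker f

variable (a b : ℤ) (hv : ∀ k, k < a ∨ b < k → r k = 0)
include hv

theorem subsingleton_cok (k : ℤ) (hk : k < a ∨ b < k) : Subsingleton (cok M k) := by
  haveI : IsEmpty (Fin (r k)) := by rw [hv k hk]; infer_instance
  haveI : Subsingleton (M.X k) := (e k).injective.subsingleton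
  exact (Submodule.mkQ_surjective _).subsingleton

theorem projective_cok_of_homology (B : Type u) [CommRing B] [Algebra A B] [Module.Flat A B]
    (h : ∀ k, Module.Projective B (B ⊗[A] M.homology k)) :
    ∀ k, Module.Projective B (B ⊗[A] cok M k) := by
  have key : ∀ (n : ℕ) (k : ℤ), b < k + n → Module.Projective B (B ⊗[A] cok M k) := by
    intro n
    induction n with
    | zero =>
      intro k hk
      haveI := subsingleton_cok M r e a b hv k (Or.inr (by omega))
      infer_instance
    | succ n ih =>
      intro k hk
      haveI := ih (k + 1) (by omega)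
      exact (step M r e B k).2.2 (h k)
  exact fun k => key (b - k + 1).toNat k (by omega)

theorem exists_away (p : PrimeSpectrum A) (h : ∀ k, p ∈ Module.freeLocus A (M.homology k)) :
    ∃ f : A, f ∉ p.asIdeal ∧ ∀ k, Module.Finite (Localization.Away f) (Localization.Away f ⊗[A] M.homology k) ∧
      Module.Projective (Localization.Away f) (Localization.Away f ⊗[A] M.homology k) := by
  let Ap := Localization.AtPrime p.asIdeal
  haveI : Module.Flat A Ap := IsLocalization.flat Ap p.asIdeal.primeCompl
  have hC := projective_cok_of_homology M r e a b hv Ap fun k => by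
    haveI : Module.Free Ap (Ap ⊗[A] M.homology k) := (Module.mem_freeLocus_iff_tensor p Ap).1 (h k)
    exact Module.Projective.of_free
  have hloc : ∀ k, p ∈ Module.freeLocus A (cok M k) := fun k => by
    haveI := finitePresentation_cok M r e k
    haveI := hC k
    haveI : Module.Free Ap (Ap ⊗[A] cok M k) := Module.free_of_flat_of_isLocalRing
    exact (Module.mem_freeLocus_iff_tensor p Ap).2 ‹_›
  let W : Set (PrimeSpectrum A) := ⋂ k ∈ Finset.Icc a b, Module.freeLocus A (cok M k)
  have hW : IsOpen W := isOpen_biInter_finset fun k _ => by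
    haveI := finitePresentation_cok M r e k
    exact Module.isOpen_freeLocus
  obtain ⟨_, ⟨_, ⟨f, rfl⟩, rfl⟩, hpf, hfW⟩ := isBasis_basic_opens.exists_subset_of_mem_open
    (Set.mem_iInter₂.2 fun k _ => hloc k) hW
  refine ⟨f, hpf, ?_⟩
  let Af := Localization.Away f
  haveI : Module.Flat A Af := IsLocalization.flat Af (Submonoid.powers f)
  have hCf : ∀ k, Module.Projective Af (Af ⊗[A] cok M k) := fun k => by
    by_cases hk : k ∈ Finset.Icc a b
    · haveI := finitePresentation_cok M r e k
      haveI : Module.Projective Af (LocalizedModule.Away f (cok M k)) :=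
        Module.basicOpen_subset_freeLocus_iff.1 (hfW.trans (Set.biInter_subset_of_mem hk))
      exact Module.Projective.of_equiv (LocalizedModule.equivTensorProduct (Submonoid.powers f) (cok M k))
    · haveI := subsingleton_cok M r e a b hv k (by rw [Finset.mem_Icc] at hk; omega)
      infer_instance
  intro k
  haveI := hCf (k + 1)
  exact ⟨(step M r e Af k).1, (step M r e Af k).2.1 (hCf k)⟩

end PerfFreeLocLib
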