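import Groth.Agent.PerfFreeLocLib.Alg
import Groth.Agent.PerfFibreLib.OpenLocus
import Groth.Agent.RefHullLib.BigOpen
import Groth.Agent.StalkDualLib.Stalk
import Groth.Agent.MiscFlat6.FreeStalks
import Groth.Agent.S2265

/-!
# The locus where the cohomology sheaves of a perfect object are free
-/

set_option autoImplicit false
set_option linter.style.haveILetI false

universe u

open CategoryTheory CategoryTheory.Limits AlgebraicGeometry Opposite TopologicalSpace
open scoped TensorProduct

attribute [local instance] HasDerivedCategory.standard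

noncomputable section

namespace PerfFreeLocLib

open Groth.Agent.PerfFibreLib (tC hdTilde exists_model_perfect isFinLocFree_of_openCover)
open Groth.Agent.PerfLib (resD isFinLocFree_of_iso)

variable {X : Scheme.{u}}

/-- Free and finite stalk. -/
def FF (M : X.Modules) (x : X) : Prop :=
  Module.Free (X.presheaf.stalk x) (M.presheaf.stalk x) ∧ Module.Finite (X.presheaf.stalk x) (M.presheaf.stalk x)

theorem ff_of_isFinLocFree {M : X.Modules} (h : FlatMod.IsFinLocFree M) (x : X) : FF M x := by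
  obtain ⟨U, n, e, hx, he⟩ := ProjFormLib.exists_frame h x
  exact ⟨Module.Free.of_basis (he.basis x hx), Module.Finite.of_basis (he.basis x hx)⟩

theorem ff_restrict_iff {V : Scheme.{u}} (j : V ⟶ X) [IsOpenImmersion j] (E : X.Modules) (p : V) :
    FF (E.restrict j) p ↔ FF E (j p) := by
  obtain ⟨σ, θ, h⟩ := RefHullLib.exists_restrict_stalk j E p
  refine ⟨fun ⟨h1, h2⟩ => ⟨(RefHullLib.free_restrict_iff j E p).1 h1, ?_⟩,
    fun ⟨h1, h2⟩ => ⟨(RefHullLib.free_restrict_iff j E p).2 h1, ?_⟩⟩
  · haveI : RingHomSurjective σ.toRingHom := ⟨σ.surjective⟩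
    exact Module.Finite.of_surjective
      ({ toFun := θ, map_add' := map_add θ, map_smul' := h } :
        (E.restrict j).presheaf.stalk p →ₛₗ[σ.toRingHom] E.presheaf.stalk (j p)) θ.surjective
  · haveI : RingHomSurjective σ.symm.toRingHom := ⟨σ.symm.surjective⟩
    exact Module.Finite.of_surjective
      ({ toFun := θ.symm, map_add' := map_add θ.symm,
         map_smul' := fun s m => RefHullLib.theta_symm σ θ h s m } :
        E.presheaf.stalk (j p) →ₛₗ[σ.symm.toRingHom] (E.restrict j).presheaf.stalk p) θ.symm.surjective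

theorem mem_freeLocus_of_free_stalk {A : CommRingCat.{u}} (H : ModuleCat.{u} A) (p : PrimeSpectrum A)
    [Module.Free ((Spec A).presheaf.stalk p) ((tilde H).presheaf.stalk p)] : p ∈ Module.freeLocus A H := by
  haveI : IsScalarTower A (StalkDualLib.Osp A p) ((tilde H).presheaf.stalk p) :=
    IsScalarTower.of_algebraMap_smul fun _ _ => rfl
  haveI : Module.Free (StalkDualLib.Osp A p) ((tilde H).presheaf.stalk p) := by assumption
  exact (Module.mem_freeLocus_of_isLocalization p (StalkDualLib.Osp A p) ((tilde H).presheaf.stalk p)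
    (tilde.toStalk H p).hom).2 ‹_›

theorem exists_chart (E : DCoh.D X) (hE : DCoh.IsPerfect E) (x : X) (hx : ∀ i, FF (DCoh.HD E i) x) :
    ∃ (Y : Scheme.{u}) (g : Y ⟶ X) (_ : IsOpenImmersion g), x ∈ Set.range g ∧
      ∀ i, FlatMod.IsFinLocFree ((DCoh.HD E i).restrict g) := by
  obtain ⟨A, j, hj, p, M, r, a, b, α, rfl, hr, hM⟩ := exists_model_perfect hE x
  let eH : ∀ k, (DCoh.HD E k).restrict j ≅ (tilde.functor A).obj (M.homology k) := fun k =>
    (Groth.Agent.PerfLib.resHDIso j E k).symm ≪≫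
      (DerivedCategory.homologyFunctor (Spec A).Modules k).mapIso α.symm ≪≫ hdTilde M k
  have hp : ∀ k, p ∈ Module.freeLocus A (M.homology k) := fun k => by
    haveI : Module.Free _ _ := ((ff_restrict_iff j (DCoh.HD E k) p).2 (hx k)).1
    haveI : Module.Free ((Spec A).presheaf.stalk p) ((tilde (M.homology k)).presheaf.stalk p) :=
      RefHullLib.free_stalk_of_iso (eH k) p
    exact mem_freeLocus_of_free_stalk _ p
  obtain ⟨f, hf, hproj⟩ := exists_away M r (fun k => (hM k).some) a b hr p hp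
  let Af := Localization.Away f
  let s : Spec (CommRingCat.of Af) ⟶ Spec A := Spec.map (CommRingCat.ofHom (algebraMap A Af))
  haveI : IsOpenImmersion s := inferInstance
  obtain ⟨q, hq⟩ : (p : Spec A) ∈ Set.range s := by
    change p ∈ Set.range (PrimeSpectrum.comap (algebraMap A Af))
    rw [PrimeSpectrum.localization_away_comap_range Af f]
    exact hf
  refine ⟨_, s ≫ j, inferInstance, ⟨q, congrArg j hq⟩, fun i => ?_⟩
  obtain ⟨e₁⟩ := Groth.Agent.S2265.result A Af (M.homology i)
  haveI := hproj i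
  refine isFinLocFree_of_iso ((Scheme.Modules.restrictFunctorComp s j).app _ ≪≫
    (Scheme.Modules.restrictFunctor s).mapIso (eH i) ≪≫
    (Scheme.Modules.restrictFunctorIsoPullback s).app _ ≪≫ e₁).symm ?_
  exact (MiscFlat6.isFinLocFree_iff _).2 (hproj i)

theorem exists_freeLocus (E : DCoh.D X) (hE : DCoh.IsPerfect E) :
    ∃ U : X.Opens, (U : Set X) = {x : X | ∀ i : ℤ, FF (DCoh.HD E i) x} ∧
      (∀ i : ℤ, FlatMod.IsFinLocFree ((DCoh.HD E i).restrict U.ι)) ∧
      ∀ W : X.Opens, (∀ i : ℤ, FlatMod.IsFinLocFree ((DCoh.HD E i).restrict W.ι)) → W ≤ U := by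
  have hsub : ∀ (Y : Scheme.{u}) (g : Y ⟶ X) [IsOpenImmersion g],
      (∀ i, FlatMod.IsFinLocFree ((DCoh.HD E i).restrict g)) →
      Set.range g ⊆ {x : X | ∀ i : ℤ, FF (DCoh.HD E i) x} := by
    rintro Y g _ h _ ⟨y, rfl⟩ i
    exact (ff_restrict_iff g _ y).1 (ff_of_isFinLocFree (h i) y)
  have hopen : IsOpen {x : X | ∀ i : ℤ, FF (DCoh.HD E i) x} := by
    refine isOpen_iff_forall_mem_open.2 fun x hx => ?_
    obtain ⟨Y, g, hg, hxg, h⟩ := exists_chart E hE x hx
    exact ⟨_, hsub Y g h, g.isOpenEmbedding.isOpen_range, hxg⟩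
  refine ⟨⟨_, hopen⟩, rfl, fun i => isFinLocFree_of_openCover fun y => ?_, fun W hW x hx => ?_⟩
  · obtain ⟨Y, g, hg, hyg, h⟩ := exists_chart E hE y.1 y.2
    let U : X.Opens := ⟨_, hopen⟩
    have hr : Set.range g ⊆ Set.range U.ι := by
      rw [Scheme.Opens.range_ι]
      exact hsub Y g h
    let g₀ := IsOpenImmersion.lift U.ι g hr
    have hg₀ : g₀ ≫ U.ι = g := IsOpenImmersion.lift_fac _ _ _
    haveI : IsOpenImmersion g₀ := by
      haveI : IsOpenImmersion (g₀ ≫ U.ι) := by rw [hg₀]; infer_instance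
      exact IsOpenImmersion.of_comp g₀ U.ι
    obtain ⟨z, hz⟩ := hyg
    refine ⟨Y, g₀, inferInstance, ⟨z, U.ι.isOpenEmbedding.injective
      ((congrArg (fun m : Y ⟶ X => m z) hg₀).trans hz)⟩, ?_⟩
    exact isFinLocFree_of_iso ((Scheme.Modules.restrictFunctorCongr hg₀.symm).app _ ≪≫
      (Scheme.Modules.restrictFunctorComp g₀ U.ι).app _) (h i)
  · refine hsub _ W.ι hW ?_
    rw [Scheme.Opens.range_ι]
    exact hx

end PerfFreeLocLib
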